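import Groth.Agent.UnitsFG.Prod
import Groth.Agent.SmoothWeil.Dom

/-! Units on a product with a connected group. -/

set_option autoImplicit false

universe u

open CategoryTheory CategoryTheory.Limits MonoidalCategory CartesianMonoidalCategory MonObj AlgebraicGeometry
open Groth.Agent.UnitsFG

noncomputable section

namespace Groth.Agent.CharUnitH7

variable {k : Type u} [Field k]

lemma app_comp {A B C : Over (Spec (CommRingCat.of k))} (p : A ⟶ B) (q : B ⟶ C) (t : Γ(C.left, ⊤)) :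
    p.left.appTop (q.left.appTop t) = (p ≫ q).left.appTop t := by
  rw [Over.comp_left, Scheme.Hom.comp_appTop]
  rfl

lemma app_id {A : Over (Spec (CommRingCat.of k))} (t : Γ(A.left, ⊤)) : (𝟙 A : A ⟶ A).left.appTop t = t := by simp

lemma exists_chart_pt {X : Over (Spec (CommRingCat.of k))} [IsIntegral X.left] [LocallyOfFiniteType X.hom] (p : specO k k ⟶ X) :
    ∃ (c : Chart X) (a : c.A →ₐ[k] k), c.pt a = p := by
  let s : (specO k k).left := Classical.arbitrary (PrimeSpectrum k)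
  obtain ⟨c, hc, -⟩ := exists_chart (X := X) ⊤ (x := p.left s) trivial
  let l := IsOpenImmersion.lift c.q.left p.left (by
    rintro _ ⟨y, rfl⟩
    rw [show y = s from Subsingleton.elim (α := PrimeSpectrum k) _ _]
    exact hc)
  have hl : l ≫ c.q.left = p.left := IsOpenImmersion.lift_fac _ _ _
  let ψ : CommRingCat.of c.A ⟶ CommRingCat.of k := Spec.preimage l
  have hψ : Spec.map ψ = l := Spec.map_preimage _
  have hw : Spec.map ψ ≫ Spec.map (CommRingCat.ofHom (algebraMap k c.A)) =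
      Spec.map (CommRingCat.ofHom (algebraMap k k)) := by
    rw [hψ]
    calc l ≫ Spec.map (CommRingCat.ofHom (algebraMap k c.A)) = l ≫ c.q.left ≫ X.hom :=
          congrArg (l ≫ ·) (Over.w c.q).symm
      _ = p.left ≫ X.hom := by rw [← Category.assoc, hl]
      _ = _ := Over.w _
  have hcomm : ∀ r : k, ψ.hom (algebraMap k c.A r) = r := fun r => by
    rw [← Spec.map_comp] at hw
    exact congrArg (fun g => g.hom r) (Spec.map_injective hw)
  refine ⟨c, { ψ.hom with commutes' := hcomm }, Over.OverMorphism.ext ?_⟩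
  show Spec.map _ ≫ c.q.left = _
  rw [← hl]
  exact congrArg (· ≫ c.q.left) hψ

lemma exists_point [IsAlgClosed k] (X : Over (Spec (CommRingCat.of k))) [IsIntegral X.left] [LocallyOfFiniteType X.hom] :
    Nonempty (specO k k ⟶ X) := by
  obtain ⟨x⟩ := (inferInstance : Nonempty X.left)
  obtain ⟨c, -, -⟩ := exists_chart (X := X) ⊤ (x := x) trivial
  obtain ⟨a⟩ := exists_algHom (k := k) c.A
  exact ⟨c.pt a⟩

variable (G : Over (Spec (CommRingCat.of k))) [GrpObj G]

/-- The unit point. -/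
def ePt : specO k k ⟶ G := toUnit _ ≫ η[G]

lemma toPt_ePt (T : Over (Spec (CommRingCat.of k))) : toPt T ≫ ePt G = toUnit T ≫ η[G] := by
  rw [ePt, ← Category.assoc, toUnit_unique (toPt T ≫ toUnit (specO k k)) (toUnit T)]

lemma unit_pullback_eq_one {f : Γ(G.left, ⊤)} (he : η[G].left.appTop f = 1) : (ePt G).left.appTop f = 1 := by
  rw [ePt, ← app_comp, he, map_one]

lemma eta_pullback_eq_one {f : Γ(G.left, ⊤)} (he : (ePt G).left.appTop f = 1) : η[G].left.appTop f = 1 := by
  have h : η[G] = toPt (𝟙_ (Over (Spec (CommRingCat.of k)))) ≫ ePt G := by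
    rw [toPt_ePt, toUnit_unique (toUnit (𝟙_ (Over (Spec (CommRingCat.of k))))) (𝟙 _), Category.id_comp]
  rw [h, ← app_comp, he, map_one]

variable [IsAlgClosed k]

variable [Smooth G.hom] [ConnectedSpace ↥G.left]

lemma comul_unit (f : Γ(G.left, ⊤)) (hf : IsUnit f) (he : (ePt G).left.appTop f = 1) :
    μ[G].left.appTop f = (fst G G).left.appTop f * (snd G G).left.appTop f := by
  haveI := SmoothWeil.isIntegral_of_smooth_connected G.hom
  obtain ⟨c, a, hca⟩ := exists_chart_pt (X := G) (ePt G)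
  have hR : IsUnit ((fst G G).left.appTop f * (snd G G).left.appTop f) := (hf.map _).mul (hf.map _)
  suffices h : μ[G].left.appTop f * ((hR.unit⁻¹ : _ˣ) : Γ((G ⊗ G).left, ⊤)) = 1 by
    rw [Units.mul_inv_eq_one, hR.unit_spec] at h
    exact h
  have key : ∀ {T : Over (Spec (CommRingCat.of k))} (s : T ⟶ G ⊗ G), s.left.appTop (μ[G].left.appTop f) =
      s.left.appTop ((fst G G).left.appTop f * (snd G G).left.appTop f) →
      s.left.appTop (μ[G].left.appTop f * ((hR.unit⁻¹ : _ˣ) : Γ((G ⊗ G).left, ⊤))) = 1 := by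
    intro T s h
    rw [map_mul, h, ← map_mul, hR.mul_val_inv, map_one]
  refine eq_one_of_trivial _ ((hf.map _).mul (Units.isUnit _)) c c a a (key _ ?_) (key _ ?_)
  · rw [map_mul, app_comp, app_comp, app_comp, hca, lift_fst, lift_snd, ← app_comp (toPt G) (ePt G), he, map_one,
      _root_.one_mul]
    congr 3
    rw [toPt_ePt, ← Hom.one_def, ← Hom.mul_def, _root_.one_mul]
  · rw [map_mul, app_comp, app_comp, app_comp, hca, lift_fst, lift_snd, ← app_comp (toPt G) (ePt G), he, map_one,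
      _root_.mul_one]
    congr 3
    rw [toPt_ePt, ← Hom.one_def, ← Hom.mul_def, _root_.mul_one]

variable {G} (X : Over (Spec (CommRingCat.of k))) [IsIntegral X.left] [LocallyOfFiniteType X.hom]

lemma decompose (f : Γ((G ⊗ X).left, ⊤)) (hf : IsUnit f) :
    ∃ χ : Γ(G.left, ⊤), IsUnit χ ∧ η[G].left.appTop χ = 1 ∧
      μ[G].left.appTop χ = (fst G G).left.appTop χ * (snd G G).left.appTop χ ∧
      f = (fst G X).left.appTop χ *
        (snd G X).left.appTop ((lift (toPt X ≫ ePt G) (𝟙 X)).left.appTop f) := by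
  haveI := SmoothWeil.isIntegral_of_smooth_connected G.hom
  obtain ⟨x₀⟩ := exists_point X
  obtain ⟨c, a, hca⟩ := exists_chart_pt (X := G) (ePt G)
  obtain ⟨d, b, hdb⟩ := exists_chart_pt (X := X) x₀
  let sX : X ⟶ G ⊗ X := lift (toPt X ≫ ePt G) (𝟙 X)
  let sY : G ⟶ G ⊗ X := lift (𝟙 G) (toPt G ≫ x₀)
  let p₀ : specO k k ⟶ G ⊗ X := lift (ePt G) x₀
  have hsX : x₀ ≫ sX = p₀ := by
    rw [comp_lift, Category.comp_id, ← Category.assoc, toPt_unique (x₀ ≫ toPt X) (𝟙 _), Category.id_comp]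
  have hsY : ePt G ≫ sY = p₀ := by
    rw [comp_lift, Category.comp_id, ← Category.assoc, toPt_unique (ePt G ≫ toPt G) (𝟙 _), Category.id_comp]
  have hc0 : IsUnit (p₀.left.appTop f) := hf.map _
  let cG : (Γ(G.left, ⊤))ˣ := Units.map ((toPt G).left.appTop.hom : _ →* _) hc0.unit
  let χ : Γ(G.left, ⊤) := sY.left.appTop f * ((cG⁻¹ : _ˣ) : Γ(G.left, ⊤))
  have hcG : (cG : Γ(G.left, ⊤)) = (toPt G).left.appTop (p₀.left.appTop f) := rfl
  have hχ : IsUnit χ := (hf.map _).mul (Units.isUnit _)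
  have hsYf : sY.left.appTop f = χ * (cG : Γ(G.left, ⊤)) := by
    show _ = sY.left.appTop f * _ * _
    rw [_root_.mul_assoc, Units.inv_mul, _root_.mul_one]
  have he : (ePt G).left.appTop χ = 1 := by
    have h1 : (ePt G).left.appTop (sY.left.appTop f) = (ePt G).left.appTop (cG : Γ(G.left, ⊤)) := by
      rw [hcG, app_comp, app_comp, app_comp, hsY, toPt_unique (ePt G ≫ toPt G) (𝟙 _),
        Category.id_comp]
    show (ePt G).left.appTop (sY.left.appTop f * _) = 1
    rw [map_mul, h1, ← map_mul, Units.mul_inv, map_one]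
  refine ⟨χ, hχ, eta_pullback_eq_one G he, comul_unit G χ hχ he, ?_⟩
  show f = (fst G X).left.appTop χ * (snd G X).left.appTop (sX.left.appTop f)
  have hR : IsUnit ((fst G X).left.appTop χ * (snd G X).left.appTop (sX.left.appTop f)) :=
    (hχ.map _).mul ((hf.map _).map _)
  suffices h : f * ((hR.unit⁻¹ : _ˣ) : Γ((G ⊗ X).left, ⊤)) = 1 by
    rw [Units.mul_inv_eq_one, hR.unit_spec] at h
    exact h
  have key : ∀ {T : Over (Spec (CommRingCat.of k))} (s : T ⟶ G ⊗ X), s.left.appTop f =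
      s.left.appTop ((fst G X).left.appTop χ * (snd G X).left.appTop (sX.left.appTop f)) →
      s.left.appTop (f * ((hR.unit⁻¹ : _ˣ) : Γ((G ⊗ X).left, ⊤))) = 1 := by
    intro T s h
    rw [map_mul, h, ← map_mul, hR.mul_val_inv, map_one]
  refine eq_one_of_trivial _ (hf.mul (Units.isUnit _)) c d a b (key _ ?_) (key _ ?_)
  · rw [map_mul, app_comp (lift (toPt X ≫ c.pt a) (𝟙 X)) (fst G X),
      app_comp (lift (toPt X ≫ c.pt a) (𝟙 X)) (snd G X), lift_fst, lift_snd, hca, ← app_comp (toPt X) (ePt G), he,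
      map_one, _root_.one_mul, app_id]
  · rw [map_mul, app_comp (lift (𝟙 G) (toPt G ≫ d.pt b)) (fst G X),
      app_comp (lift (𝟙 G) (toPt G ≫ d.pt b)) (snd G X), lift_fst, lift_snd, hdb, app_id,
      ← app_comp (toPt G) x₀, app_comp x₀ sX, hsX, ← hcG]
    exact hsYf

omit [Smooth G.hom] [ConnectedSpace ↥G.left] in
lemma eq_of_decomp {f : Γ((G ⊗ X).left, ⊤)} {u : Γ(X.left, ⊤)} (hu : IsUnit u) {χ χ' : Γ(G.left, ⊤)}
    (h : f = (fst G X).left.appTop χ * (snd G X).left.appTop u)
    (h' : f = (fst G X).left.appTop χ' * (snd G X).left.appTop u) : χ = χ' := by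
  obtain ⟨x₀⟩ := exists_point X
  have e : (fst G X).left.appTop χ = (fst G X).left.appTop χ' := (hu.map _).mul_left_injective (h.symm.trans h')
  have := congrArg (lift (𝟙 G) (toPt G ≫ x₀)).left.appTop e
  rwa [app_comp, app_comp, lift_fst, app_id, app_id] at this

end Groth.Agent.CharUnitH7
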